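import Groth.Agent.StMod.K469.EtPoly

/-!
# Étale-local idempotents separating geometric points of an integral algebra

`exists_etale_idem`: `A → B` integral, `χ_0, …, χ_n : B → K` points over `ι : A → K`, `K`
algebraically closed. After an étale extension `A → A'` through which `ι` factors there is an
idempotent `e ∈ B ⊗ A'` which is `1` at all points equal to `χ_0` and `0` at the others.
-/

set_option backward.isDefEq.respectTransparency false
set_option backward.isDefEq.respectTransparency.types false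

open Polynomial TensorProduct

universe u

namespace K469.EtIdem

/-- one point is separated from `χ₀`. -/
theorem step {A B K : Type u} [CommRing A] [CommRing B] [Algebra A B] [Algebra.IsIntegral A B]
    [Field K] [IsAlgClosed K] (ι : A →+* K) (χ₀ χ₁ : B →+* K)
    (h₀ : χ₀.comp (algebraMap A B) = ι) (h₁ : χ₁.comp (algebraMap A B) = ι) (hne : χ₁ ≠ χ₀) :
    ∃ (A' : Type u) (_ : CommRing A') (_ : Algebra A A') (_ : Algebra.Etale A A') (ι' : A' →+* K)
      (_ : ι'.comp (algebraMap A A') = ι) (e : B ⊗[A] A') (_ : IsIdempotentElem e),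
      ∀ (χ : B →+* K) (φ : B ⊗[A] A' →+* K),
        φ.comp (Algebra.TensorProduct.includeLeftRingHom) = χ →
        φ.comp (Algebra.TensorProduct.includeRight (R := A) (A := B) (B := A')).toRingHom = ι' →
        (χ = χ₀ → φ e = 1) ∧ (χ = χ₁ → φ e = 0) := by
  obtain ⟨b, hb⟩ : ∃ b : B, χ₁ b ≠ χ₀ b := by
    by_contra hcon
    push Not at hcon
    exact hne (RingHom.ext hcon)
  obtain ⟨q, hq, hqb⟩ := Algebra.IsIntegral.isIntegral (R := A) b
  have hev : ∀ χ : B →+* K, χ.comp (algebraMap A B) = ι → q.eval₂ ι (χ b) = 0 := by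
    intro χ hχ
    rw [← hχ, ← Polynomial.hom_eval₂, hqb, map_zero]
  obtain ⟨A', _, _, hA', ι', hι', e, ⟨c, hc⟩, he1, he0, -⟩ :=
    EtPoly.exists_etale_poly ι q hq (χ₀ b) (hev χ₀ h₀)
  let r : A' →+* B ⊗[A] A' :=
    (Algebra.TensorProduct.includeRight (R := A) (A := B) (B := A')).toRingHom
  let l : B →+* B ⊗[A] A' := Algebra.TensorProduct.includeLeftRingHom
  have hrl : r.comp (algebraMap A A') = l.comp (algebraMap A B) := by
    ext a
    change (1 : B) ⊗ₜ[A] (algebraMap A A' a) = (algebraMap A B a) ⊗ₜ[A] (1 : A')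
    rw [Algebra.algebraMap_eq_smul_one, Algebra.algebraMap_eq_smul_one, TensorProduct.tmul_smul,
      TensorProduct.smul_tmul']
  have hroot : (q.map (algebraMap A A')).eval₂ r (l b) = 0 := by
    rw [Polynomial.eval₂_map, hrl, ← Polynomial.hom_eval₂, hqb, map_zero]
  refine ⟨A', inferInstance, inferInstance, hA', ι', hι', e.eval₂ r (l b), ?_, ?_⟩
  · have h2 := congrArg (fun z => z.eval₂ r (l b)) hc
    simp only [Polynomial.eval₂_sub, Polynomial.eval₂_pow, Polynomial.eval₂_mul] at h2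
    rw [hroot, zero_mul, sub_eq_zero, pow_two] at h2
    exact h2
  · intro χ φ hφl hφr
    have hφ : φ (e.eval₂ r (l b)) = e.eval₂ ι' (χ b) := by
      rw [Polynomial.hom_eval₂, hφr, ← hφl]
      rfl
    rw [hφ]
    constructor
    · rintro rfl; exact he1
    · rintro rfl; exact he0 _ (hev _ h₁) hb

/-- separation from a finite set of points. -/
theorem aux {A B K : Type u} [CommRing A] [CommRing B] [Algebra A B] [Algebra.IsIntegral A B]
    [Field K] [IsAlgClosed K] (ι : A →+* K) {J : Type*} (χ₀ : B →+* K) (χ : J → (B →+* K))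
    (h₀ : χ₀.comp (algebraMap A B) = ι) (hχ : ∀ i, (χ i).comp (algebraMap A B) = ι)
    (s : Finset J) :
    ∃ (A' : Type u) (_ : CommRing A') (_ : Algebra A A') (_ : Algebra.Etale A A') (ι' : A' →+* K)
      (_ : ι'.comp (algebraMap A A') = ι) (e : B ⊗[A] A') (_ : IsIdempotentElem e),
      ∀ (ψ : B →+* K) (φ : B ⊗[A] A' →+* K),
        φ.comp (Algebra.TensorProduct.includeLeftRingHom) = ψ →
        φ.comp (Algebra.TensorProduct.includeRight (R := A) (A := B) (B := A')).toRingHom = ι' →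
        (ψ = χ₀ → φ e = 1) ∧ (∀ i ∈ s, ψ = χ i → χ i ≠ χ₀ → φ e = 0) := by
  classical
  induction s using Finset.induction_on with
  | empty =>
    refine ⟨A, inferInstance, inferInstance, inferInstance, ι, ?_, 1, mul_one 1, ?_⟩
    · ext a; rfl
    · intro ψ φ _ _
      exact ⟨fun _ => map_one φ, fun i hi => absurd hi (Finset.notMem_empty i)⟩
  | insert i₀ s hi₀ ih =>
    by_cases hi : χ i₀ = χ₀
    · obtain ⟨A', _, _, hA', ι', hι', e, he, h⟩ := ih
      refine ⟨A', inferInstance, inferInstance, hA', ι', hι', e, he, ?_⟩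
      intro ψ φ h1 h2
      refine ⟨(h ψ φ h1 h2).1, ?_⟩
      intro i hi' hψ hne
      rcases Finset.mem_insert.1 hi' with rfl | hs
      · exact absurd hi hne
      · exact (h ψ φ h1 h2).2 i hs hψ hne
    · obtain ⟨A₁, _, _, hA₁, ι₁, hι₁, e₁, he₁, H₁⟩ := ih
      obtain ⟨A₂, _, _, hA₂, ι₂, hι₂, e₂, he₂, H₂⟩ := step ι χ₀ (χ i₀) h₀ (hχ i₀) hi
      let _ : Algebra A K := ι.toAlgebra
      let j₁ : A₁ →ₐ[A] K := { ι₁ with commutes' := fun a => congrArg (fun z => z a) hι₁ }
      let j₂ : A₂ →ₐ[A] K := { ι₂ with commutes' := fun a => congrArg (fun z => z a) hι₂ }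
      let j : A₁ ⊗[A] A₂ →ₐ[A] K := Algebra.TensorProduct.productMap j₁ j₂
      have hj₁ : ∀ a : A₁, j (a ⊗ₜ 1) = ι₁ a := by
        intro a
        rw [Algebra.TensorProduct.productMap_apply_tmul, map_one, mul_one]
        rfl
      have hj₂ : ∀ a : A₂, j (1 ⊗ₜ a) = ι₂ a := by
        intro a
        rw [Algebra.TensorProduct.productMap_apply_tmul, map_one, one_mul]
        rfl
      have hE : Algebra.Etale A (A₁ ⊗[A] A₂) := Algebra.Etale.comp A A₁ (A₁ ⊗[A] A₂)
      let f₁ : B ⊗[A] A₁ →ₐ[A] B ⊗[A] (A₁ ⊗[A] A₂) :=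
        Algebra.TensorProduct.map (AlgHom.id A B) Algebra.TensorProduct.includeLeft
      let f₂ : B ⊗[A] A₂ →ₐ[A] B ⊗[A] (A₁ ⊗[A] A₂) :=
        Algebra.TensorProduct.map (AlgHom.id A B) Algebra.TensorProduct.includeRight
      refine ⟨A₁ ⊗[A] A₂, inferInstance, inferInstance, hE, j.toRingHom, ?_, f₁ e₁ * f₂ e₂, ?_, ?_⟩
      · ext a
        exact j.commutes a
      · have h1 : f₁ e₁ * f₁ e₁ = f₁ e₁ := by rw [← map_mul, he₁.eq]
        have h2 : f₂ e₂ * f₂ e₂ = f₂ e₂ := by rw [← map_mul, he₂.eq]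
        show f₁ e₁ * f₂ e₂ * (f₁ e₁ * f₂ e₂) = f₁ e₁ * f₂ e₂
        linear_combination (f₂ e₂ * f₂ e₂) * h1 + (f₁ e₁) * h2
      · intro ψ φ hl hr
        have hr' : ∀ z : A₁ ⊗[A] A₂, φ ((1 : B) ⊗ₜ[A] z) = j z := fun z =>
          congrArg (fun w => w z) hr
        have hl' : ∀ z : B, φ (z ⊗ₜ[A] (1 : A₁ ⊗[A] A₂)) = ψ z := fun z =>
          congrArg (fun w => w z) hl
        have a₁ := H₁ ψ (φ.comp f₁.toRingHom) (by
            ext z
            change φ (f₁ (z ⊗ₜ 1)) = ψ z
            rw [Algebra.TensorProduct.map_tmul]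
            exact hl' z) (by
            ext z
            change φ (f₁ (1 ⊗ₜ z)) = ι₁ z
            rw [Algebra.TensorProduct.map_tmul]
            exact (hr' (z ⊗ₜ 1)).trans (hj₁ z))
        have a₂ := H₂ ψ (φ.comp f₂.toRingHom) (by
            ext z
            change φ (f₂ (z ⊗ₜ 1)) = ψ z
            rw [Algebra.TensorProduct.map_tmul]
            exact hl' z) (by
            ext z
            change φ (f₂ (1 ⊗ₜ z)) = ι₂ z
            rw [Algebra.TensorProduct.map_tmul]
            exact (hr' (1 ⊗ₜ z)).trans (hj₂ z))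
        constructor
        · intro h
          rw [map_mul]
          have b₁ : φ (f₁ e₁) = 1 := a₁.1 h
          have b₂ : φ (f₂ e₂) = 1 := a₂.1 h
          rw [b₁, b₂, one_mul]
        · intro i hi' hψ hne
          rw [map_mul]
          rcases Finset.mem_insert.1 hi' with rfl | hs
          · have b₂ : φ (f₂ e₂) = 0 := a₂.2 hψ
            rw [b₂, mul_zero]
          · have b₁ : φ (f₁ e₁) = 0 := a₁.2 i hs hψ hne
            rw [b₁, zero_mul]

/-- (H1b) -/
theorem exists_etale_idem {A B K : Type u} [CommRing A] [CommRing B] [Algebra A B]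
    [Algebra.IsIntegral A B]
    [Field K] [IsAlgClosed K] (ι : A →+* K) {n : ℕ} (χ : Fin (n + 1) → (B →+* K))
    (hχ : ∀ i, (χ i).comp (algebraMap A B) = ι) :
    ∃ (A' : Type u) (_ : CommRing A') (_ : Algebra A A') (_ : Algebra.Etale A A') (ι' : A' →+* K)
      (_ : ι'.comp (algebraMap A A') = ι) (e : B ⊗[A] A') (_ : IsIdempotentElem e),
      ∀ (i : Fin (n + 1)) (φ : B ⊗[A] A' →+* K),
        φ.comp (Algebra.TensorProduct.includeLeftRingHom) = χ i →
        φ.comp (Algebra.TensorProduct.includeRight (R := A) (A := B) (B := A')).toRingHom = ι' →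
        (χ i = χ 0 → φ e = 1) ∧ (χ i ≠ χ 0 → φ e = 0) := by
  obtain ⟨A', _, _, hA', ι', hι', e, he, h⟩ := aux ι (χ 0) χ (hχ 0) hχ Finset.univ
  refine ⟨A', inferInstance, inferInstance, hA', ι', hι', e, he, ?_⟩
  intro i φ h1 h2
  exact ⟨(h (χ i) φ h1 h2).1, fun hne => (h (χ i) φ h1 h2).2 i (Finset.mem_univ i) rfl hne⟩

end K469.EtIdem
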