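import Mathlib

/-!
# Étale-local idempotents attached to a root of a monic polynomial

`exists_etale_poly`: for a ring map `ι : A → K` to an algebraically closed field, a monic `q : A[X]`
and a root `γ` of `q` in `K`, after an étale extension `A → A'` through which `ι` factors there is a
polynomial `e` which is idempotent modulo `q`, takes the value `1` at `γ` and `0` at all other roots
of `q` in `K`, and which is divisible by `X` modulo `q` as soon as `γ ≠ 0`.
-/

set_option backward.isDefEq.respectTransparency false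
set_option backward.isDefEq.respectTransparency.types false

open Polynomial TensorProduct

universe u

namespace K469.EtPoly

/-- the core: after an étale extension `q` splits into coprime factors, the first of which becomes
`(X - γ)^m` over `K`. -/
theorem exists_factor {A K : Type u} [CommRing A] [Field K] [IsAlgClosed K] (ι : A →+* K)
    (q : A[X]) (hq : q.Monic) (γ : K) (hγ : q.eval₂ ι γ = 0) :
    ∃ (A' : Type u) (_ : CommRing A') (_ : Algebra A A') (_ : Algebra.Etale A A') (ι' : A' →+* K)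
      (_ : ι'.comp (algebraMap A A') = ι) (f g : A'[X]) (m : ℕ),
      IsCoprime f g ∧ f * g = q.map (algebraMap A A') ∧ f.map ι' = (X - C γ) ^ m ∧ m ≠ 0 := by
  classical
  let _ : Algebra A K := ι.toAlgebra
  have hι : algebraMap A K = ι := rfl
  set Q : K[X] := q.map ι with hQ
  have hQm : Q.Monic := hq.map ι
  have hQ0 : Q ≠ 0 := hQm.ne_zero
  have hroot : Q.IsRoot γ := by
    rw [Polynomial.IsRoot, hQ, Polynomial.eval_map]; exact hγ
  obtain ⟨h, hh, hdvd⟩ := Polynomial.exists_eq_pow_rootMultiplicity_mul_and_not_dvd Q hQ0 γ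
  set m := Q.rootMultiplicity γ with hm
  have hm0 : m ≠ 0 := by
    have := (Polynomial.rootMultiplicity_pos hQ0).2 hroot
    omega
  have hXm : ((X - C γ) ^ m : K[X]).Monic := (Polynomial.monic_X_sub_C γ).pow m
  have hhm : h.Monic := hXm.of_mul_monic_left (hh ▸ hQm)
  have hdeg : q.natDegree = m + h.natDegree := by
    have h1 : Q.natDegree = q.natDegree := hq.natDegree_map ι
    rw [← h1, hh, hXm.natDegree_mul hhm, (Polynomial.monic_X_sub_C γ).natDegree_pow,
      Polynomial.natDegree_X_sub_C, mul_one]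
  have hcop : IsCoprime ((X - C γ) ^ m : K[X]) h := by
    apply IsCoprime.pow_left
    rw [(Polynomial.irreducible_X_sub_C γ).coprime_iff_not_dvd]
    exact hdvd
  have hXdeg : ((X - C γ) ^ m : K[X]).natDegree = m := by
    rw [(Polynomial.monic_X_sub_C γ).natDegree_pow, Polynomial.natDegree_X_sub_C, mul_one]
  let p : MonicDegreeEq A q.natDegree := .mk q hq rfl
  let F : MonicDegreeEq K m := .mk _ hXm hXdeg
  let G : MonicDegreeEq K h.natDegree := .mk h hhm rfl
  let φ : UniversalCoprimeFactorizationRing m h.natDegree hdeg p →ₐ[A] K :=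
    (UniversalCoprimeFactorizationRing.homEquiv K m h.natDegree hdeg p).symm
      ⟨(F, G), hh.symm, hcop⟩
  have hφ := (UniversalCoprimeFactorizationRing.homEquiv K m h.natDegree hdeg p).apply_symm_apply
      ⟨(F, G), hh.symm, hcop⟩
  refine ⟨UniversalCoprimeFactorizationRing m h.natDegree hdeg p, inferInstance, inferInstance,
    inferInstance, φ.toRingHom, ?_, (UniversalCoprimeFactorizationRing.factor₁ m _ hdeg p).1,
    (UniversalCoprimeFactorizationRing.factor₂ m _ hdeg p).1, m,
    UniversalCoprimeFactorizationRing.isCoprime_factor₁_factor₂ m _ hdeg p,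
    UniversalCoprimeFactorizationRing.factor₁_mul_factor₂ m _ hdeg p, ?_, hm0⟩
  · exact φ.comp_algebraMap
  · have h2 := congrArg (fun z => z.1.1.1) hφ
    simp only at h2
    change _ = F.1
    rw [← h2]
    simp [UniversalCoprimeFactorizationRing.homEquiv, UniversalFactorizationRing.homEquiv,
      UniversalCoprimeFactorizationRing.factor₁, Polynomial.map_map, φ]
    rfl

/-- the idempotent polynomial attached to a coprime factorization. -/
theorem core {A' K : Type u} [CommRing A'] [Field K] (ι' : A' →+* K) (Q f g a b : A'[X]) (γ : K)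
    (m : ℕ) (hm : m ≠ 0) (hab : a * f + b * g = 1) (hQ : f * g = Q)
    (hf : f.map ι' = (X - C γ) ^ m) :
    (Q ∣ (b * g) ^ 2 - b * g) ∧ (b * g).eval₂ ι' γ = 1 ∧
      (∀ δ : K, Q.eval₂ ι' δ = 0 → δ ≠ γ → (b * g).eval₂ ι' δ = 0) := by
  have hfev : ∀ δ : K, f.eval₂ ι' δ = (δ - γ) ^ m := by
    intro δ
    rw [← Polynomial.eval_map, hf]
    simp
  refine ⟨⟨-(a * b), ?_⟩, ?_, ?_⟩
  · rw [← hQ]
    linear_combination (b * g) * hab
  · have h1 := congrArg (fun z => z.eval₂ ι' γ) hab
    simp only [Polynomial.eval₂_add, Polynomial.eval₂_mul, Polynomial.eval₂_one] at h1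
    rw [hfev, sub_self, zero_pow hm, mul_zero, zero_add] at h1
    rw [Polynomial.eval₂_mul]; exact h1
  · intro δ hδ hne
    rw [← hQ, Polynomial.eval₂_mul, hfev] at hδ
    have h2 : (δ - γ) ^ m ≠ 0 := pow_ne_zero _ (sub_ne_zero.2 hne)
    rw [Polynomial.eval₂_mul, (mul_eq_zero.1 hδ).resolve_left h2, mul_zero]

/-- (H1a) -/
theorem exists_etale_poly {A K : Type u} [CommRing A] [Field K] [IsAlgClosed K] (ι : A →+* K)
    (q : A[X]) (hq : q.Monic) (γ : K) (hγ : q.eval₂ ι γ = 0) :
    ∃ (A' : Type u) (_ : CommRing A') (_ : Algebra A A') (_ : Algebra.Etale A A') (ι' : A' →+* K)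
      (_ : ι'.comp (algebraMap A A') = ι) (e : A'[X]),
      (q.map (algebraMap A A') ∣ e ^ 2 - e) ∧ e.eval₂ ι' γ = 1 ∧
      (∀ δ : K, q.eval₂ ι δ = 0 → δ ≠ γ → e.eval₂ ι' δ = 0) ∧
      (γ ≠ 0 → ∃ d : A'[X], q.map (algebraMap A A') ∣ e - X * d) := by
  obtain ⟨A₁, _, _, _, ι₁, hι₁, f, g, m, ⟨a, b, hab⟩, hfg, hf, hm⟩ := exists_factor ι q hq γ hγ
  have hev : ∀ (A' : Type u) [CommRing A'] [Algebra A A'] (ι' : A' →+* K)
      (_ : ι'.comp (algebraMap A A') = ι) (δ : K),
      (q.map (algebraMap A A')).eval₂ ι' δ = q.eval₂ ι δ := by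
    intro A' _ _ ι' h δ
    rw [Polynomial.eval₂_map, h]
  by_cases hγ0 : γ = 0
  · obtain ⟨h1, h2, h3⟩ := core ι₁ _ f g a b γ m hm hab hfg hf
    refine ⟨A₁, inferInstance, inferInstance, inferInstance, ι₁, hι₁, b * g, h1, h2, ?_,
      fun h => absurd hγ0 h⟩
    intro δ hδ hne
    exact h3 δ (by rw [hev A₁ ι₁ hι₁]; exact hδ) hne
  · -- invert the constant coefficient of `f`
    have hu : ι₁ (f.coeff 0) ≠ 0 := by
      have h0 := congrArg (fun z => z.coeff 0) hf
      simp only [Polynomial.coeff_map] at h0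
      rw [h0, Polynomial.coeff_zero_eq_eval_zero]
      simp only [Polynomial.eval_pow, Polynomial.eval_sub, Polynomial.eval_X, Polynomial.eval_C,
        zero_sub]
      exact pow_ne_zero _ (neg_ne_zero.2 hγ0)
    let A₂ := Localization.Away (f.coeff 0)
    let _ : Algebra.Etale A₁ A₂ := Algebra.Etale.of_isLocalizationAway (f.coeff 0)
    have hAe : Algebra.Etale A A₂ := Algebra.Etale.comp A A₁ A₂
    let ι₂ : A₂ →+* K := IsLocalization.Away.lift (f.coeff 0) (g := ι₁) (IsUnit.mk0 _ hu)
    have hι₂ : ι₂.comp (algebraMap A₁ A₂) = ι₁ := IsLocalization.Away.lift_comp _ _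
    have hι : ι₂.comp (algebraMap A A₂) = ι := by
      rw [IsScalarTower.algebraMap_eq A A₁ A₂, ← RingHom.comp_assoc, hι₂, hι₁]
    set r := algebraMap A₁ A₂ with hr
    have hunit : IsUnit (r (f.coeff 0)) := IsLocalization.Away.algebraMap_isUnit _
    obtain ⟨v, hv⟩ := hunit.exists_left_inv
    have hab2 : (a.map r) * (f.map r) + (b.map r) * (g.map r) = 1 := by
      rw [← Polynomial.map_mul, ← Polynomial.map_mul, ← Polynomial.map_add, hab,
        Polynomial.map_one]
    have hfg2 : (f.map r) * (g.map r) = q.map (algebraMap A A₂) := by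
      rw [← Polynomial.map_mul, hfg, Polynomial.map_map, hr,
        ← IsScalarTower.algebraMap_eq A A₁ A₂]
    have hf2 : (f.map r).map ι₂ = (X - C γ) ^ m := by
      rw [Polynomial.map_map, hι₂, hf]
    obtain ⟨h1, h2, h3⟩ := core ι₂ _ (f.map r) (g.map r) (a.map r) (b.map r) γ m hm hab2 hfg2 hf2
    refine ⟨A₂, inferInstance, inferInstance, hAe, ι₂, hι, b.map r * g.map r, h1, h2, ?_, ?_⟩
    · intro δ hδ hne
      exact h3 δ (by rw [hev A₂ ι₂ hι]; exact hδ) hne
    · intro _
      -- `f = f(0) + X * f₁`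
      obtain ⟨f₁, hf₁⟩ : (X : A₂[X]) ∣ f.map r - C (r (f.coeff 0)) := by
        rw [Polynomial.X_dvd_iff]
        simp
      refine ⟨b.map r * g.map r * (- (C v * f₁)), ⟨b.map r * C v, ?_⟩⟩
      rw [← hfg2]
      have hC : (C v * C (r (f.coeff 0)) : A₂[X]) = 1 := by
        rw [← C_mul, hv, C_1]
      linear_combination (- (b.map r * g.map r * C v)) * hf₁ - (b.map r * g.map r) * hC

end K469.EtPoly
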